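import Groth.Agent.FPSysLib.Algebra

/-! Finitely presented stages of homomorphisms of algebras. -/

noncomputable section
universe u

namespace Groth.Agent.FPPairLib

open MvPolynomial CategoryTheory Limits
open Groth.Agent.FPSysLib.Alg

variable {R : Type u} [CommRing R] {A C : Type u} [CommRing A] [Algebra R A] [CommRing C] [Algebra R C]

/-- Transport of a relation along a homomorphism. -/
theorem aeval_rename_hom (g : A →ₐ[R] C) (z : MvPolynomial A R) :
    aeval (id : C → C) (rename g z) = g (aeval (id : A → A) z) := by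
  have h : (aeval (id : C → C)).comp (rename (R := R) (g : A → C)) = g.comp (aeval (id : A → A)) := MvPolynomial.algHom_ext fun x => by simp
  exact DFunLike.congr_fun h z

/-- The indices are compatible along the homomorphism. -/
def Cpt (g : A →ₐ[R] C) (p : Idx R A) (q : Idx R C) : Prop :=
  (∀ a ∈ p.1.1, g a ∈ q.1.1) ∧ (∀ z ∈ p.1.2, rename g z ∈ q.1.2)

theorem Cpt.mono_right {g : A →ₐ[R] C} {p : Idx R A} {q q' : Idx R C} (h : Cpt g p q) (hq : q ≤ q') : Cpt g p q' :=
  ⟨fun a ha => hq.1 (h.1 a ha), fun z hz => hq.2 (h.2 z hz)⟩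

/-- The union of two indices. -/
def sup (p q : Idx R A) : Idx R A := by
  classical
  exact ⟨(p.1.1 ∪ q.1.1, p.1.2 ∪ q.1.2), fun z hz => (Finset.mem_union.mp hz).elim (p.2 z) (q.2 z)⟩

theorem le_sup_left (p q : Idx R A) : p ≤ sup p q := by
  classical exact ⟨Finset.subset_union_left, Finset.subset_union_left⟩

theorem le_sup_right (p q : Idx R A) : q ≤ sup p q := by
  classical exact ⟨Finset.subset_union_right, Finset.subset_union_right⟩

/-- Adding generators. -/
def addGen (p : Idx R A) (s : Finset A) : Idx R A := by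
  classical exact ⟨(p.1.1 ∪ s, p.1.2), p.2⟩

theorem le_addGen (p : Idx R A) (s : Finset A) : p ≤ addGen p s := by
  classical exact ⟨Finset.subset_union_left, Finset.Subset.refl _⟩

theorem mem_addGen {p : Idx R A} {s : Finset A} {a : A} : a ∈ (addGen p s).1.1 ↔ a ∈ p.1.1 ∨ a ∈ s := by
  classical exact Finset.mem_union

/-- Adding relations. -/
def addRel (p : Idx R A) (t : Finset (MvPolynomial A R)) (ht : ∀ z ∈ t, aeval (id : A → A) z = 0) : Idx R A := by
  classical exact ⟨(p.1.1, p.1.2 ∪ t), fun z hz => (Finset.mem_union.mp hz).elim (p.2 z) (ht z)⟩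

theorem le_addRel (p : Idx R A) (t : Finset (MvPolynomial A R)) (ht) : p ≤ addRel p t ht := by
  classical exact ⟨Finset.Subset.refl _, Finset.subset_union_left⟩

theorem addRel_fst (p : Idx R A) (t : Finset (MvPolynomial A R)) (ht) : (addRel p t ht).1.1 = p.1.1 := by
  classical rfl

theorem mem_addRel {p : Idx R A} {t : Finset (MvPolynomial A R)} {ht} {z} :
    z ∈ (addRel p t ht).1.2 ↔ z ∈ p.1.2 ∨ z ∈ t := by
  classical exact Finset.mem_union

/-- The induced map of stages. -/
def mapS (g : A →ₐ[R] C) (p : Idx R A) (q : Idx R C) (h : Cpt g p q) : Stage p →ₐ[R] Stage q :=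
  Ideal.Quotient.liftₐ _ ((Ideal.Quotient.mkₐ R (rel q)).comp
      (rename fun x : {x // x ∈ p.1.1} => (⟨g x.1, h.1 _ x.2⟩ : {x // x ∈ q.1.1})))
    fun w hw => (Ideal.span_le (I := RingHom.ker ((Ideal.Quotient.mkₐ R (rel q)).comp
      (rename fun x : {x // x ∈ p.1.1} => (⟨g x.1, h.1 _ x.2⟩ : {x // x ∈ q.1.1}))))).mpr (fun v hv => by
        show Ideal.Quotient.mk _ (rename _ v) = 0
        rw [Ideal.Quotient.eq_zero_iff_mem]
        refine Ideal.subset_span ?_
        show rename Subtype.val _ ∈ q.1.2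
        have h2 := h.2 _ hv
        rw [rename_rename] at h2 ⊢
        exact h2) hw

theorem mapS_mk (g : A →ₐ[R] C) (p : Idx R A) (q : Idx R C) (h : Cpt g p q) (w) :
    mapS g p q h (Ideal.Quotient.mk _ w) = Ideal.Quotient.mk _ (rename (fun x => ⟨g x.1, h.1 _ x.2⟩) w) := rfl

theorem toLim_mapS (g : A →ₐ[R] C) (p : Idx R A) (q : Idx R C) (h : Cpt g p q) :
    (toLim q).comp (mapS g p q h) = g.comp (toLim p) :=
  Ideal.Quotient.algHom_ext _ (MvPolynomial.algHom_ext fun x => by
    show toLim q (mapS g p q h (Ideal.Quotient.mk _ (X x))) = g (toLim p (Ideal.Quotient.mk _ (X x)))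
    simp only [mapS_mk, toLim_mk, rename_X, aeval_X])

theorem toLim_mapS_apply (g : A →ₐ[R] C) (p : Idx R A) (q : Idx R C) (h : Cpt g p q) (x : Stage p) :
    toLim q (mapS g p q h x) = g (toLim p x) :=
  DFunLike.congr_fun (toLim_mapS g p q h) x

theorem mapS_trans (g : A →ₐ[R] C) {p p' : Idx R A} {q q' : Idx R C} (h : Cpt g p q) (h' : Cpt g p' q')
    (hp : p ≤ p') (hq : q ≤ q') :
    (mapS g p' q' h').comp (trans p p' hp) = (trans q q' hq).comp (mapS g p q h) :=
  Ideal.Quotient.algHom_ext _ (MvPolynomial.algHom_ext fun x => by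
    show mapS g p' q' h' (trans p p' hp (Ideal.Quotient.mk _ (X x))) =
      trans q q' hq (mapS g p q h (Ideal.Quotient.mk _ (X x)))
    simp only [trans_mk, mapS_mk, rename_X])

theorem mapS_trans_apply (g : A →ₐ[R] C) {p p' : Idx R A} {q q' : Idx R C} (h : Cpt g p q) (h' : Cpt g p' q')
    (hp : p ≤ p') (hq : q ≤ q') (x : Stage p) :
    mapS g p' q' h' (trans p p' hp x) = trans q q' hq (mapS g p q h x) :=
  DFunLike.congr_fun (mapS_trans g h h' hp hq) x

theorem trans_apply_trans {p q r : Idx R A} (h : p ≤ q) (h' : q ≤ r) (x : Stage p) :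
    trans q r h' (trans p q h x) = trans p r (le_trans h h') x :=
  DFunLike.congr_fun (trans_trans h h') x

theorem surjective_trans {p q : Idx R A} (h : p ≤ q) (hs : q.1.1 ⊆ p.1.1) : Function.Surjective (trans p q h) := by
  intro z
  obtain ⟨w, rfl⟩ := Ideal.Quotient.mk_surjective z
  obtain ⟨v, rfl⟩ := MvPolynomial.rename_surjective
    (fun x : {x // x ∈ p.1.1} => (⟨x.1, h.1 x.2⟩ : {x // x ∈ q.1.1}))
    (fun x => ⟨⟨x.1, hs x.2⟩, rfl⟩) w
  exact ⟨Ideal.Quotient.mk _ v, rfl⟩

/-- Generators that are all images give a surjection. -/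
theorem surjective_mapS (g : A →ₐ[R] C) (p : Idx R A) (q : Idx R C) (h : Cpt g p q)
    (hs : ∀ c ∈ q.1.1, ∃ a ∈ p.1.1, g a = c) : Function.Surjective (mapS g p q h) := by
  intro z
  obtain ⟨w, rfl⟩ := Ideal.Quotient.mk_surjective z
  obtain ⟨v, rfl⟩ := MvPolynomial.rename_surjective
    (fun x : {x // x ∈ p.1.1} => (⟨g x.1, h.1 _ x.2⟩ : {x // x ∈ q.1.1}))
    (fun y => by
      obtain ⟨a, ha, e⟩ := hs y.1 y.2
      exact ⟨⟨a, ha⟩, Subtype.ext e⟩) w
  exact ⟨Ideal.Quotient.mk _ v, rfl⟩

/-- Any polynomial which vanishes can be made a relation. -/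
theorem mk_eq_zero_of_mem (p : Idx R A) (w : MvPolynomial {x // x ∈ p.1.1} R) (hw : rename Subtype.val w ∈ p.1.2) :
    (Ideal.Quotient.mk (rel p) w : Stage p) = 0 :=
  Ideal.Quotient.eq_zero_iff_mem.mpr (Ideal.subset_span hw)

/-- Generators with relations from images. -/
theorem finite_stage (p : Idx R A) (hint : ∀ x : {x // x ∈ p.1.1}, IsIntegral R (Ideal.Quotient.mk (rel p) (X x) : Stage p)) :
    Module.Finite R (Stage p) := by
  haveI := finitePresentation_stage p
  haveI : Algebra.IsIntegral R (Stage p) := by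
    refine ⟨fun z => ?_⟩
    obtain ⟨w, rfl⟩ := Ideal.Quotient.mk_surjective z
    induction w using MvPolynomial.induction_on with
    | C r => exact isIntegral_algebraMap
    | add a b ha hb => rw [map_add]; exact ha.add hb
    | mul_X a x ha => rw [map_mul]; exact ha.mul (hint x)
  exact Algebra.IsIntegral.finite

theorem isNilpotent_ker_of_fg {S T : Type u} [CommRing S] [CommRing T] (φ : S →+* T) (hfg : (RingHom.ker φ).FG)
    (h : ∀ x ∈ RingHom.ker φ, IsNilpotent x) : IsNilpotent (RingHom.ker φ) :=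
  (Ideal.FG.isNilpotent_iff_le_nilradical hfg).mpr fun x hx => h x hx

/-- Adding nilpotency relations makes the kernel of a surjective map of stages nil. -/
theorem exists_nil_repair (g : A →ₐ[R] C) (hg : ∀ a, g a = 0 → IsNilpotent a) (p : Idx R A) (q : Idx R C)
    (h : Cpt g p q) (hs : Function.Surjective (mapS g p q h)) :
    ∃ (p' : Idx R A) (q' : Idx R C) (hp : p ≤ p') (hq : q ≤ q') (h' : Cpt g p' q'),
      p'.1.1 = p.1.1 ∧ q'.1.1 = q.1.1 ∧ Function.Bijective (trans q q' hq) ∧
      Function.Surjective (mapS g p' q' h') ∧ ∀ x ∈ RingHom.ker (mapS g p' q' h').toRingHom, IsNilpotent x := by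
  classical
  haveI := finitePresentation_stage p
  haveI := finitePresentation_stage q
  obtain ⟨G, hG⟩ := Algebra.FinitePresentation.ker_fG_of_surjective (mapS g p q h) hs
  have hnil : ∀ x ∈ G, ∃ n : ℕ, 0 < n ∧ ∃ w : MvPolynomial {x // x ∈ p.1.1} R, Ideal.Quotient.mk (rel p) w = x ∧
      aeval (id : A → A) (rename Subtype.val (w ^ n)) = 0 := by
    intro x hx
    obtain ⟨w, rfl⟩ := Ideal.Quotient.mk_surjective x
    have h0 : mapS g p q h (Ideal.Quotient.mk (rel p) w) = 0 := by
      have : Ideal.Quotient.mk (rel p) w ∈ RingHom.ker (mapS g p q h).toRingHom := hG ▸ Ideal.subset_span hx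
      exact this
    obtain ⟨n, hn⟩ := hg (toLim p (Ideal.Quotient.mk (rel p) w)) (by rw [← toLim_mapS_apply g p q h, h0, map_zero])
    refine ⟨n + 1, n.succ_pos, w, rfl, ?_⟩
    rw [aeval_rename, Function.id_comp, map_pow, pow_succ, ← toLim_mk, hn, zero_mul]
  choose n hnpos w hw hw0 using hnil
  let t : Finset (MvPolynomial A R) := G.attach.image fun x => rename Subtype.val (w x.1 x.2 ^ n x.1 x.2)
  have ht : ∀ z ∈ t, aeval (id : A → A) z = 0 := by
    intro z hz
    obtain ⟨x, -, rfl⟩ := Finset.mem_image.mp hz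
    exact hw0 x.1 x.2
  let p' := addRel p t ht
  let t' : Finset (MvPolynomial C R) := t.image fun z => rename g z
  have ht' : ∀ z ∈ t', aeval (id : C → C) z = 0 := by
    intro z hz
    obtain ⟨y, hy, rfl⟩ := Finset.mem_image.mp hz
    rw [aeval_rename_hom, ht y hy, map_zero]
  let q' := addRel q t' ht'
  have hp : p ≤ p' := le_addRel _ _ _
  have hq : q ≤ q' := le_addRel _ _ _
  have h' : Cpt g p' q' := ⟨fun a ha => h.1 a ha, fun z hz => by
    rcases mem_addRel.mp hz with hz | hz
    · exact mem_addRel.mpr (Or.inl (h.2 z hz))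
    · exact mem_addRel.mpr (Or.inr (Finset.mem_image_of_mem _ hz))⟩
  have hinj : Function.Injective (trans q q' hq) := by
    rw [injective_iff_map_eq_zero]
    intro y hy
    obtain ⟨v, rfl⟩ := Ideal.Quotient.mk_surjective y
    rw [trans_mk, Ideal.Quotient.eq_zero_iff_mem] at hy
    rw [Ideal.Quotient.eq_zero_iff_mem]
    have hle : rel q' ≤ rel q := by
      refine Ideal.span_le.mpr fun u hu => ?_
      rcases mem_addRel.mp hu with hu | hu
      · exact Ideal.subset_span hu
      · obtain ⟨z, hz, e⟩ := Finset.mem_image.mp hu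
        obtain ⟨x, -, rfl⟩ := Finset.mem_image.mp hz
        have he : rename (fun a : {a // a ∈ p.1.1} => (⟨g a.1, h.1 _ a.2⟩ : {c // c ∈ q.1.1}))
            (w x.1 x.2 ^ n x.1 x.2) = u := by
          refine rename_injective _ Subtype.val_injective (Eq.trans ?_ e)
          rw [rename_rename, rename_rename]
          rfl
        refine (Ideal.Quotient.eq_zero_iff_mem (I := rel q)).mp ?_
        rw [← he]
        refine (mapS_mk g p q h _).symm.trans ?_
        have hx : mapS g p q h x.1 = 0 := by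
          have : x.1 ∈ RingHom.ker (mapS g p q h).toRingHom := hG ▸ Ideal.subset_span x.2
          exact this
        rw [map_pow, hw x.1 x.2, map_pow, hx, zero_pow (hnpos x.1 x.2).ne']
    have : v ∈ rel q' := by
      rw [← rename_id_apply v]
      exact hy
    exact hle this
  refine ⟨p', q', hp, hq, h', rfl, rfl, ⟨hinj, surjective_trans hq (Finset.Subset.refl _)⟩, ?_, ?_⟩
  · intro z
    obtain ⟨y, rfl⟩ := surjective_trans hq (Finset.Subset.refl _) z
    obtain ⟨x, rfl⟩ := hs y
    exact ⟨trans p p' hp x, mapS_trans_apply g h h' hp hq x⟩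
  · intro z hz
    obtain ⟨y, rfl⟩ := surjective_trans hp (Finset.Subset.refl _) z
    have hy : y ∈ RingHom.ker (mapS g p q h).toRingHom := by
      refine hinj ?_
      rw [map_zero]
      exact (mapS_trans_apply g h h' hp hq y).symm.trans hz
    have hle : Ideal.map (trans p p' hp).toRingHom (RingHom.ker (mapS g p q h).toRingHom) ≤ nilradical (Stage p') := by
      rw [← hG, Ideal.map_span, Ideal.span_le]
      rintro _ ⟨x, hx, rfl⟩
      refine ⟨n x hx, ?_⟩
      show (trans p p' hp x) ^ n x hx = 0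
      rw [← map_pow]
      refine (congrArg _ ((congrArg (· ^ n x hx) (hw x hx).symm).trans (map_pow _ _ _).symm)).trans ?_
      exact mk_eq_zero_of_mem p' _ (mem_addRel.mpr (Or.inr (by
        erw [rename_rename]
        exact Finset.mem_image.mpr ⟨⟨x, hx⟩, Finset.mem_attach _ _, rfl⟩)))
    exact hle (Ideal.mem_map_of_mem _ hy)

variable {J : Type u} [Preorder J]

/-- The diagram of stages. -/
def stageFun (s : J → Idx R A) (hs : Monotone s) : J ⥤ Under (CommRingCat.of R) where
  obj j := Under.mk (CommRingCat.ofHom (algebraMap R (Stage (s j))))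
  map {i j} h := Under.homMk (CommRingCat.ofHom (trans (s i) (s j) (hs h.le)).toRingHom)
    (CommRingCat.hom_ext (trans (s i) (s j) (hs h.le)).comp_algebraMap)
  map_id j := Under.UnderMorphism.ext (CommRingCat.hom_ext (congrArg AlgHom.toRingHom (trans_self (s j))))
  map_comp {i j k} h h' := Under.UnderMorphism.ext (CommRingCat.hom_ext
    (congrArg AlgHom.toRingHom (trans_trans (A := A) (hs h.le) (hs h'.le))).symm)

/-- The cocone of stages. -/
def stageCocone (s : J → Idx R A) (hs : Monotone s) :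
    stageFun s hs ⟶ (Functor.const J).obj (Under.mk (CommRingCat.ofHom (algebraMap R A))) where
  app j := Under.homMk (CommRingCat.ofHom (toLim (s j)).toRingHom) (CommRingCat.hom_ext (toLim (s j)).comp_algebraMap)
  naturality i j h := Under.UnderMorphism.ext (CommRingCat.hom_ext
    (congrArg AlgHom.toRingHom (toLim_trans (s i) (s j) (hs h.le))))

/-- The map of diagrams. -/
def stageMap (g : A →ₐ[R] C) (s : J → Idx R A) (hs : Monotone s) (t : J → Idx R C) (ht : Monotone t)
    (h : ∀ j, Cpt g (s j) (t j)) : stageFun s hs ⟶ stageFun t ht where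
  app j := Under.homMk (CommRingCat.ofHom (mapS g (s j) (t j) (h j)).toRingHom)
    (CommRingCat.hom_ext (mapS g (s j) (t j) (h j)).comp_algebraMap)
  naturality i j e := Under.UnderMorphism.ext (CommRingCat.hom_ext
    (congrArg AlgHom.toRingHom (mapS_trans g (h i) (h j) (hs e.le) (ht e.le))))

theorem stageMap_comp (g : A →ₐ[R] C) (s : J → Idx R A) (hs : Monotone s) (t : J → Idx R C) (ht : Monotone t)
    (h : ∀ j, Cpt g (s j) (t j)) (j : J) :
    ((stageMap g s hs t ht h).app j).right ≫ ((stageCocone t ht).app j).right =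
      ((stageCocone s hs).app j).right ≫ CommRingCat.ofHom g.toRingHom :=
  CommRingCat.hom_ext (congrArg AlgHom.toRingHom (toLim_mapS g (s j) (t j) (h j)))

/-- A cofinal family of stages has colimit the algebra. -/
theorem isColimit_stage [IsDirected J (· ≤ ·)] [Nonempty J] (s : J → Idx R A) (hs : Monotone s)
    (h0 : ∀ p : Idx R A, ∃ j, p ≤ s j) (hext : ∀ (j : J) (p : Idx R A), s j ≤ p → ∃ k, j ≤ k ∧ p ≤ s k) :
    Nonempty (IsColimit (Cocone.mk _ (stageCocone s hs))) := by
  refine nonempty_isColimit _ (fun a => ?_) (fun j x y e => ?_)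
  · obtain ⟨p, x, hx⟩ := exists_toLim_eq (R := R) (show A from a)
    obtain ⟨j, hj⟩ := h0 p
    exact ⟨j, trans p (s j) hj x, (DFunLike.congr_fun (toLim_trans p (s j) hj) x).trans hx⟩
  · obtain ⟨q, hq, -, h0'⟩ := exists_trans_eq_zero (s j) ((show Stage (s j) from x) - (show Stage (s j) from y)) ((map_sub (toLim (s j)) x y).trans (sub_eq_zero.mpr e))
    obtain ⟨k, hk, hqk⟩ := hext j q hq
    refine ⟨k, hk, ?_⟩
    show trans (s j) (s k) (hs hk) x = trans (s j) (s k) (hs hk) y
    exact sub_eq_zero.mp ((map_sub (trans (s j) (s k) (hs hk)) x y).symm.trans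
      ((trans_apply_trans hq hqk _).symm.trans ((congrArg (trans q (s k) hqk) h0').trans (map_zero _))))

end Groth.Agent.FPPairLib
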